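import Mathlib
import Cfsg.Agent.Helper17.FiQ1Ord.Upper

/-! Lower bound for the order of the presented group through a stabiliser chain on the coset points, and
consequences: the order, faithfulness of the permutation representation, triviality of the
pointwise stabiliser of the base. -/

set_option autoImplicit false
set_option linter.all false
set_option maxRecDepth 100000

noncomputable section

namespace Cfsg.Agent.Helper17.FiQ1Ord

open Cfsg.Spor Cfsg.Agent.Helper17.FiQ1TC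

theorem phi_prodw (w : List ℕ) (h : ∀ l ∈ w, l < nl) : phi (prodw w) = permw w := by
  induction w with
  | nil => simp [prodw, permw]
  | cons l w ih =>
    rw [prodw, permw, map_mul, phi_gG (h l (List.mem_cons_self ..)),
      ih (fun x hx => h x (List.mem_cons_of_mem _ hx))]

theorem phi_prodw_apply (w : List ℕ) (h : ∀ l ∈ w, l < nl) (i : ℕ) :
    phi (prodw w) i = evalw w i := by
  rw [phi_prodw w h, permw_apply]

/-- the stabiliser of a point under `phi`. -/
def stabP (β : ℕ) : Subgroup G := (MulAction.stabilizer (Equiv.Perm ℕ) β).comap phi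

theorem mem_stabP {β : ℕ} {g : G} : g ∈ stabP β ↔ phi g β = β := by
  rw [stabP, Subgroup.mem_comap, MulAction.mem_stabilizer_iff, Equiv.Perm.smul_def]

/-- pointwise stabiliser of a list of points. -/
def Kof : List ℕ → Subgroup G
  | [] => ⊤
  | b :: bs => Kof bs ⊓ stabP b

theorem mem_Kof {bs : List ℕ} {g : G} : g ∈ Kof bs ↔ ∀ b ∈ bs, phi g b = b := by
  induction bs with
  | nil => simp [Kof]
  | cons b bs ih =>
    rw [Kof, Subgroup.mem_inf, ih, mem_stabP]
    simp only [List.mem_cons, forall_eq_or_imp]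
    tauto

theorem step [Finite G] (K : Subgroup G) (β : ℕ) (O : Finset ℕ)
    (h : ∀ p ∈ O, ∃ k ∈ K, phi k β = p) :
    O.card * Nat.card ↥(K ⊓ stabP β) ≤ Nat.card K := by
  classical
  set S : Subgroup K := (stabP β).subgroupOf K with hS
  have hcard : Nat.card S = Nat.card ↥(K ⊓ stabP β) := by
    rw [hS, ← Subgroup.inf_subgroupOf_left]
    exact Nat.card_congr (Subgroup.subgroupOfEquivOfLe inf_le_left).toEquiv
  have hidx : O.card ≤ S.index := by
    rw [Subgroup.index_eq_card]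
    choose! f hfK hf using h
    have : Function.Injective (fun p : O => ((⟨f p.1, hfK p.1 p.2⟩ : K) : K ⧸ S)) := by
      intro p q hpq
      simp only at hpq
      rw [QuotientGroup.eq] at hpq
      rw [hS, Subgroup.mem_subgroupOf, mem_stabP] at hpq
      simp only [Subgroup.coe_mul, Subgroup.coe_inv, map_mul, map_inv,
        Equiv.Perm.mul_apply] at hpq
      rw [hf q.1 q.2, Equiv.Perm.inv_eq_iff_eq, hf p.1 p.2] at hpq
      exact Subtype.ext hpq.symm
    have := Nat.card_le_card_of_injective _ this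
    simpa using this
  calc O.card * Nat.card ↥(K ⊓ stabP β) = O.card * Nat.card S := by rw [hcard]
    _ ≤ S.index * Nat.card S := Nat.mul_le_mul_right _ hidx
    _ = Nat.card K := by rw [mul_comm]; exact Subgroup.card_mul_index S

/-! ### tree certificates -/

def chkTree (W : List (List ℕ)) : List (ℕ × ℕ × ℕ) → ℕ → Bool
  | [], _ => true
  | (p, q, k) :: t, m =>
    m.testBit q && !m.testBit p && (evalw (W.getD k []) q == p) &&
      chkTree W t (m ||| (1 <<< p))

def wordsOK (bs : List ℕ) (W : List (List ℕ)) : Bool :=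
  W.all fun w => (w.all fun l => decide (l < nl)) && bs.all fun b => evalw w b == b

theorem word_mem {bs : List ℕ} {W : List (List ℕ)} (h : wordsOK bs W = true) (k : ℕ) :
    (∀ l ∈ W.getD k [], l < nl) ∧ prodw (W.getD k []) ∈ Kof bs := by
  by_cases hk : k < W.length
  · have hm : W.getD k [] ∈ W := by
      rw [List.getD_eq_getElem _ _ hk]; exact List.getElem_mem hk
    simp only [wordsOK, List.all_eq_true, Bool.and_eq_true, decide_eq_true_eq, beq_iff_eq] at h
    obtain ⟨h1, h2⟩ := h _ hm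
    refine ⟨h1, ?_⟩
    rw [mem_Kof]
    intro b hb
    rw [phi_prodw_apply _ h1]
    exact h2 b hb
  · rw [List.getD_eq_default _ _ (not_lt.mp hk)]
    exact ⟨by simp, by simp [prodw, (Kof bs).one_mem]⟩

theorem testBit_lor_shift (m p x : ℕ) :
    (m ||| (1 <<< p)).testBit x = (m.testBit x || decide (p = x)) := by
  rw [Nat.testBit_or, Nat.one_shiftLeft, Nat.testBit_two_pow]

theorem reach_of_chkTree {bs : List ℕ} {W : List (List ℕ)} (hW : wordsOK bs W = true) (β : ℕ) :
    ∀ (l : List (ℕ × ℕ × ℕ)) (m : ℕ) (seen : List ℕ),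
      (∀ x, m.testBit x = true ↔ x ∈ seen) → seen.Nodup →
      (∀ p ∈ seen, ∃ g ∈ Kof bs, phi g β = p) → chkTree W l m = true →
      ∃ S : Finset ℕ, S.card = seen.length + l.length ∧ ∀ p ∈ S, ∃ g ∈ Kof bs, phi g β = p := by
  intro l
  induction l with
  | nil =>
    intro m seen _ hnd hs _
    refine ⟨seen.toFinset, ?_, ?_⟩
    · rw [List.toFinset_card_of_nodup hnd]; simp
    · intro p hp; exact hs p (List.mem_toFinset.mp hp)
  | cons x t ih =>
    obtain ⟨p, q, k⟩ := x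
    intro m seen hm hnd hs hc
    simp only [chkTree, Bool.and_eq_true, Bool.not_eq_eq_eq_not, Bool.not_true,
      beq_iff_eq] at hc
    obtain ⟨⟨⟨hq, hp⟩, he⟩, ht⟩ := hc
    have hq' : q ∈ seen := (hm q).mp hq
    have hp' : p ∉ seen := by
      intro h
      have := (hm p).mpr h
      rw [hp] at this
      exact Bool.false_ne_true this
    have hA : ∀ x, (m ||| (1 <<< p)).testBit x = true ↔ x ∈ p :: seen := by
      intro x
      rw [testBit_lor_shift, Bool.or_eq_true, hm x, decide_eq_true_eq, List.mem_cons]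
      constructor
      · rintro (h | h)
        · exact Or.inr h
        · exact Or.inl h.symm
      · rintro (h | h)
        · exact Or.inr h.symm
        · exact Or.inl h
    have hB : (p :: seen).Nodup := List.nodup_cons.mpr ⟨hp', hnd⟩
    have hC : ∀ p' ∈ p :: seen, ∃ g ∈ Kof bs, phi g β = p' := by
      intro p' hp''
      rcases List.mem_cons.mp hp'' with rfl | hp''
      · obtain ⟨g, hg, hgq⟩ := hs q hq'
        obtain ⟨hl, hmw⟩ := word_mem hW k
        refine ⟨prodw (W.getD k []) * g, (Kof bs).mul_mem hmw hg, ?_⟩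
        rw [map_mul, Equiv.Perm.mul_apply, hgq, phi_prodw_apply _ hl, he]
      · exact hs p' hp''
    obtain ⟨S, hS, hS2⟩ := ih (m ||| (1 <<< p)) (p :: seen) hA hB hC ht
    refine ⟨S, ?_, hS2⟩
    rw [hS, List.length_cons, List.length_cons]; omega

theorem level [Finite G] {bs : List ℕ} {W : List (List ℕ)} (hW : wordsOK bs W = true) (β : ℕ)
    (T : List (ℕ × ℕ × ℕ)) (hT : chkTree W T (1 <<< β) = true) (n : ℕ)
    (hn : T.length + 1 = n) :
    n * Nat.card ↥(Kof (β :: bs)) ≤ Nat.card ↥(Kof bs) := by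
  have hA : ∀ x, (1 <<< β).testBit x = true ↔ x ∈ [β] := by
    intro x
    rw [Nat.one_shiftLeft, Nat.testBit_two_pow, decide_eq_true_eq, List.mem_singleton]
    exact eq_comm
  have hB : [β].Nodup := by simp
  have hC : ∀ p ∈ [β], ∃ g ∈ Kof bs, phi g β = p := by
    intro p hp
    rw [List.mem_singleton] at hp
    subst hp
    exact ⟨1, (Kof bs).one_mem, by simp⟩
  obtain ⟨S, hS, hS2⟩ := reach_of_chkTree hW β T (1 <<< β) [β] hA hB hC hT
  have hcard : S.card = n := by rw [hS, ← hn]; simp; omega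
  rw [← hcard]
  exact step (Kof bs) β S hS2

def W3 : List (List ℕ) :=
   [[0],
    [1],
    [2],
    [3],
    [4],
    [5],
    [6, 2, 1, 0, 3, 2, 1, 4, 3, 2, 5, 4, 3, 6, 2, 1, 3, 2, 4, 3, 5, 6, 4, 2, 3, 0, 1, 2, 6, 3, 4, 5, 2, 3, 4, 1, 2, 3, 0, 1, 2, 6]]

def T3 : List (ℕ × ℕ × ℕ) :=
  [(782, 636, 0), (766, 636, 1), (796, 636, 2), (794, 636, 4), (2953, 636, 6), (955, 782, 1), (961, 782, 2), (959, 782, 4), (2884, 782, 6), (928, 766, 0), (939, 766, 2), (937, 766, 4), (3076, 766, 6), (976, 796, 1), (977, 796, 3), (974, 796, 4), (2774, 796, 6), (970, 794, 3), (972, 794, 5), (3068, 794, 6), (1104, 955, 0), (1141, 955, 2), (1138, 955, 4), (2988, 955, 6), (1147, 961, 1), (1148, 961, 3), (1145, 961, 4), (2950, 961, 6), (1142, 959, 3), (1143, 959, 5), (3029, 959, 6), (1110, 928, 2), (1108, 928, 4), (3140, 928, 6), (1122, 939, 1), (1123, 939, 3), (1120, 939, 4), (2999, 939, 6), (1117, 937, 3), (1118, 937, 5), (3138, 937, 6), (1166, 976, 0), (1167,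 976, 3), (1162, 976, 4), (2952, 976, 6), (1168, 977, 4), (2527, 977, 6), (1163, 974, 3), (1160, 974, 5), (2939, 974, 6), (1158, 970, 2), (1156, 970, 5), (3126, 970, 6), (3130, 972, 6), (1288, 1104, 2), (1286, 1104, 4), (3104, 1104, 6), (1334, 1141, 1), (1335, 1141, 3), (1331, 1141, 4), (2902, 1141, 6), (1328, 1138, 3), (1329, 1138, 5), (3097, 1138, 6), (1343, 1147, 0), (1344, 1147, 3), (1339, 1147, 4), (3074, 1147, 6), (1345, 1148, 4), (2766, 1148, 6), (1340, 1145, 3), (1337, 1145, 5), (3059, 1145, 6), (1336, 1142, 2), (1330, 1142, 5), (3118, 1142, 6), (3094, 1143, 6), (1294, 1110, 1), (1295, 1110, 3), (1292, 1110, 4), (3108, 1110, 6), (1289, 1108, 3), (1290, 1108, 5), (3158, 1108, 6), (1312, 1122, 0), (1313, 1122, 3), (1308, 1122, 4), (2829, 1122, 6), (1314, 1123, 4), (2827, 1123, 6), (1309, 1120, 3), (1306, 1120, 5), (3101, 1120, 6), (1305, 1117, 2), (1291, 1117, 5), (3154, 1117, 6), (3156, 1118, 6), (1369, 1166, 3), (1363, 1166, 4), (2883,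 1166, 6), (1370, 1167, 2), (1371, 1167, 4), (2773, 1167, 6), (1364, 1162, 3), (1359, 1162, 5), (3067, 1162, 6), (1365, 1168, 3), (1372, 1168, 5), (2254, 1168, 6), (1357, 1163, 2), (1360, 1163, 5), (2750, 1163, 6), (3054, 1160, 6), (1356, 1158, 1), (1354, 1158, 5), (3046, 1158, 6), (1287, 1156, 4), (3120, 1156, 6), (1487, 1288, 1), (1488, 1288, 3), (1485, 1288, 4), (3037, 1288, 6), (1159, 1286, 3), (1157, 1286, 5), (3153, 1286, 6), (1549, 1334, 0), (1550, 1334, 3), (1544, 1334, 4), (3041, 1334, 6), (1551, 1335, 4), (2701, 1335, 6), (1545, 1331, 3), (1542, 1331, 5), (3028, 1331, 6), (1541, 1328, 2), (1144, 1328, 5), (3151, 1328, 6), (3142, 1329, 6), (1564, 1343, 3), (1558, 1343, 4), (2985, 1343, 6), (1565, 1344, 2), (1566, 1344, 4), (2949, 1344, 6), (1559, 1339, 3), (1554, 1339, 5), (3133, 1339, 6), (1560, 1345, 3), (1214, 1345, 5), (2520, 1345, 6), (1553, 1340, 2), (1555, 1340, 5), (2925, 1340, 6), (2975, 1337, 6), (1552, 1336, 1), (1543, 1336,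 5), (3018, 1336, 6), (1140, 1330, 4), (3027, 1330, 6), (1496, 1294, 0), (1497, 1294, 3), (1492, 1294, 4), (3038, 1294, 6), (1498, 1295, 4), (2997, 1295, 6), (1493, 1292, 3), (1490, 1292, 5), (3143, 1292, 6), (1489, 1289, 2), (1119, 1289, 5), (3145, 1289, 6), (3152, 1290, 6), (1523, 1312, 3), (1517, 1312, 4), (2994, 1312, 6), (1524, 1313, 2), (1525, 1313, 4), (2586, 1313, 6), (1518, 1308, 3), (1513, 1308, 5), (2984, 1308, 6), (1519, 1314, 3), (1526, 1314, 5), (2588, 1314, 6), (1512, 1309, 2), (1514, 1309, 5), (2982, 1309, 6), (3146, 1306, 6), (1511, 1305, 1), (1491, 1305, 5), (3144, 1305, 6), (1109, 1291, 4), (3150, 1291, 6), (1598, 1369, 2), (1599, 1369, 4), (2671, 1369, 6), (1590, 1363, 3), (1584, 1363, 5), (3024, 1363, 6), (1600, 1370, 4), (2593, 1370, 6), (1592, 1371, 3), (1601, 1371, 5), (2530, 1371, 6), (1591, 1364, 2), (1585, 1364, 5), (2938, 1364, 6), (3129, 1359, 6), (1581, 1365, 2), (1593, 1365, 5), (2498, 1365, 6), (1989, 1372, 6),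 (1580, 1357, 1), (1576, 1357, 5), (2906, 1357, 6), (1586, 1360, 4), (2919, 1360, 6), (1579, 1356, 0), (1575, 1356, 5), (3125, 1356, 6), (1486, 1354, 4), (3023, 1354, 6), (3040, 1287, 6), (1710, 1487, 0), (1711, 1487, 3), (1706, 1487, 4), (2896, 1487, 6), (1712, 1488, 4), (2895, 1488, 6), (1707, 1485, 3), (1355, 1485, 5), (3113, 1485, 6), (1358, 1159, 2), (973, 1159, 5), (3157, 1159, 6), (3155, 1157, 6), (1797, 1549, 3), (1789, 1549, 4), (3070, 1549, 6), (1798, 1550, 2), (1799, 1550, 4), (2900, 1550, 6), (1790, 1544, 3), (1785, 1544, 5), (3121, 1544, 6), (1791, 1551, 3), (1800, 1551, 5), (2453, 1551, 6), (1784, 1545, 2), (1786, 1545, 5), (2876, 1545, 6), (3119, 1542, 6), (1783, 1541, 1), (1338, 1541, 5), (3095, 1541, 6), (960, 1144, 4), (3122, 1144, 6), (1816, 1564, 2), (1817, 1564, 4), (2810, 1564, 6), (1810, 1558, 3), (1804, 1558, 5), (3092, 1558, 6), (1779, 1565, 4), (2811, 1565, 6), (1812, 1566, 3), (1384, 1566, 5), (2769, 1566, 6), (1811,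 1559, 2), (1805, 1559, 5), (3058, 1559, 6), (3093, 1554, 6), (1803, 1560, 2), (1415, 1560, 5), (2735, 1560, 6), (2250, 1214, 6), (1802, 1553, 1), (1788, 1553, 5), (2860, 1553, 6), (1806, 1555, 4), (2796, 1555, 6), (1801, 1552, 0), (1787, 1552, 5), (3117, 1552, 6), (1333, 1543, 4), (2875, 1543, 6), (2901, 1140, 6), (1725, 1496, 3), (1719, 1496, 4), (3106, 1496, 6), (1726, 1497, 2), (1727, 1497, 4), (3105, 1497, 6), (1720, 1492, 3), (1715, 1492, 5), (3114, 1492, 6), (1721, 1498, 3), (1728, 1498, 5), (2830, 1498, 6), (1714, 1493, 2), (1716, 1493, 5), (3080, 1493, 6), (3098, 1490, 6), (1713, 1489, 1), (1307, 1489, 5), (3082, 1489, 6), (938, 1119, 4), (3100, 1119, 6), (1762, 1523, 2), (1763, 1523, 4), (2820, 1523, 6), (1754, 1517, 3), (1748, 1517, 5), (3091, 1517, 6), (1764, 1524, 4), (2318, 1524, 6), (1756, 1525, 3), (1765, 1525, 5), (2310, 1525, 6), (1755, 1518, 2), (1749, 1518, 5), (2805, 1518, 6), (3085, 1513, 6), (1747, 1519, 2), (1757, 1519,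 5), (2809, 1519, 6), (2312, 1526, 6), (1746, 1512, 1), (1718, 1512, 5), (3081, 1512, 6), (1750, 1514, 4), (3083, 1514, 6), (1745, 1511, 0), (1717, 1511, 5), (3123, 1511, 6), (1293, 1491, 4), (3099, 1491, 6), (3107, 1109, 6), (1854, 1598, 1), (1855, 1598, 4), (2399, 1598, 6), (1845, 1599, 3), (1856, 1599, 5), (2401, 1599, 6), (1844, 1590, 2), (1837, 1590, 5), (2872, 1590, 6), (3116, 1584, 6), (1857, 1600, 3), (1858, 1600, 5), (2402, 1600, 6), (1846, 1592, 2), (1848, 1592, 5), (2753, 1592, 6), (2258, 1601, 6), (1831, 1591, 1), (1838, 1591, 5), (2873, 1591, 6), (1823, 1585, 4), (3053, 1585, 6), (1832, 1581, 1), (1833, 1581, 5), (2709, 1581, 6), (1839, 1593, 4), (2232, 1593, 6), (1830, 1580, 0), (1825, 1580, 5), (3045, 1580, 6), (1826, 1576, 4), (2871, 1576, 6), (2727, 1586, 6), (1824, 1579, 5), (3112, 1579, 6), (1708, 1575, 4), (3115, 1575, 6), (1709, 1486, 3), (2898, 1486, 6), (1956, 1710, 3), (1950, 1710, 4), (3036, 1710, 6), (1957, 1711, 2),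 (1958, 1711, 4), (2692, 1711, 6), (1951, 1706, 3), (1577, 1706, 5), (3013, 1706, 6), (1952, 1712, 3), (1959, 1712, 5), (2693, 1712, 6), (1583, 1707, 2), (1578, 1707, 5), (3012, 1707, 6), (3127, 1355, 6), (1582, 1358, 1), (1161, 1358, 5), (3131, 1358, 6), (795, 973, 4), (3139, 973, 6), (2064, 1797, 2), (2065, 1797, 4), (2941, 1797, 6), (2053, 1789, 3), (2047, 1789, 5), (3135, 1789, 6), (2066, 1798, 4), (2942, 1798, 6), (2055, 1799, 3), (2067, 1799, 5), (2702, 1799, 6), (2054, 1790, 2), (2048, 1790, 5), (3026, 1790, 6), (3147, 1785, 6), (2046, 1791, 2), (2056, 1791, 5), (2661, 1791, 6), (2189, 1800, 6), (2045, 1784, 1), (1557, 1784, 5), (2976, 1784, 6), (2049, 1786, 4), (3019, 1786, 6), (2044, 1783, 0), (1556, 1783, 5), (3141, 1783, 6), (1146, 1338, 4), (3134, 1338, 6), (3032, 960, 6), (2083, 1816, 1), (2039, 1816, 4), (2566, 1816, 6), (2078, 1817, 3), (1610, 1817, 5), (2568, 1817, 6), (2077, 1810, 2), (2071, 1810, 5), (2972, 1810, 6), (3132,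 1804, 6), (2028, 1779, 3), (1540, 1779, 5), (2569, 1779, 6), (2079, 1812, 2), (1607, 1812, 5), (2928, 1812, 6), (2524, 1384, 6), (2069, 1811, 1), (2072, 1811, 5), (2973, 1811, 6), (2073, 1805, 4), (2974, 1805, 6), (2070, 1803, 1), (1638, 1803, 5), (2640, 1803, 6), (1640, 1415, 4), (2489, 1415, 6), (2068, 1802, 0), (2051, 1802, 5), (3017, 1802, 6), (2052, 1788, 4), (2657, 1788, 6), (2550, 1806, 6), (2050, 1801, 5), (3128, 1801, 6), (1547, 1787, 4), (3025, 1787, 6), (1548, 1333, 3), (2700, 1333, 6), (1977, 1725, 2), (1978, 1725, 4), (2993, 1725, 6), (1969, 1719, 3), (1963, 1719, 5), (3149, 1719, 6), (1979, 1726, 4), (3009, 1726, 6), (1971, 1727, 3), (1981, 1727, 5), (2995, 1727, 6), (1970, 1720, 2), (1964, 1720, 5), (3022, 1720, 6), (3030, 1715, 6), (1962, 1721, 2), (1972, 1721, 5), (2961, 1721, 6), (2589, 1728, 6), (1961, 1714, 1), (1516, 1714, 5), (2957, 1714, 6), (1965, 1716, 4), (2979, 1716, 6), (1960, 1713, 0), (1515, 1713, 5), (2958, 1713,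 6), (1121, 1307, 4), (2981, 1307, 6), (2998, 938, 6), (2020, 1762, 1), (2021, 1762, 4), (2591, 1762, 6), (2011, 1763, 3), (2022, 1763, 5), (2579, 1763, 6), (2010, 1754, 2), (2002, 1754, 5), (2968, 1754, 6), (3137, 1748, 6), (2023, 1764, 3), (2024, 1764, 5), (2043, 1764, 6), (2012, 1756, 2), (2014, 1756, 5), (2561, 1756, 6), (2036, 1765, 6), (1999, 1755, 1), (2003, 1755, 5), (2666, 1755, 6), (2004, 1749, 4), (2959, 1749, 6), (2000, 1747, 1), (2001, 1747, 5), (2962, 1747, 6), (2005, 1757, 4), (2565, 1757, 6), (1998, 1746, 0), (1967, 1746, 5), (3031, 1746, 6), (1968, 1718, 4), (2980, 1718, 6), (2963, 1750, 6), (1966, 1745, 5), (3136, 1745, 6), (1494, 1717, 4), (3148, 1717, 6), (1495, 1293, 3), (2996, 1293, 6), (2126, 1854, 4), (2119, 1854, 6), (2127, 1855, 3), (2128, 1855, 5), (2120, 1855, 6), (2112, 1845, 2), (2114, 1845, 5), (2658, 1845, 6), (2123, 1856, 6), (2111, 1844, 1), (2105, 1844, 5), (2656, 1844, 6), (2087, 1837, 4), (3015, 1837, 6),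 (2115, 1857, 2), (2129, 1857, 5), (2122, 1857, 6), (2124, 1858, 6), (2099, 1846, 1), (2116, 1846, 5), (2659, 1846, 6), (2086, 1848, 4), (2502, 1848, 6), (2097, 1831, 0), (2090, 1831, 5), (3011, 1831, 6), (2080, 1838, 4), (3016, 1838, 6), (2922, 1823, 6), (2098, 1832, 0), (2101, 1832, 5), (2909, 1832, 6), (2092, 1833, 4), (2466, 1833, 6), (2484, 1839, 6), (2089, 1830, 5), (3008, 1830, 6), (2091, 1825, 4), (3014, 1825, 6), (1955, 1826, 3), (2655, 1826, 6), (1953, 1824, 4), (3124, 1824, 6), (1954, 1708, 3), (3039, 1708, 6), (2696, 1709, 6), (2212, 1956, 2), (2213, 1956, 4), (2892, 1956, 6), (2204, 1950, 3), (1827, 1950, 5), (3109, 1950, 6), (2214, 1957, 4), (2888, 1957, 6), (2206, 1958, 3), (2216, 1958, 5), (2439, 1958, 6), (2205, 1951, 2), (1828, 1951, 5), (2855, 1951, 6), (3110, 1577, 6), (1836, 1952, 2), (2207, 1952, 5), (2856, 1952, 6), (2440, 1959, 6), (1835, 1583, 1), (1362, 1583, 5), (3055, 1583, 6), (1829, 1578, 4), (3047, 1578, 6), (1834,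 1582, 0), (1361, 1582, 5), (3084, 1582, 6), (975, 1161, 4), (3069, 1161, 6), (3077, 795, 6), (2339, 2064, 1), (2340, 2064, 4), (2755, 2064, 6), (2329, 2065, 3), (2341, 2065, 5), (2757, 2065, 6), (2328, 2053, 2), (2322, 2053, 5), (3061, 2053, 6), (3086, 2047, 6), (2304, 2066, 3), (2342, 2066, 5), (2758, 2066, 6), (2330, 2055, 2), (2332, 2055, 5), (2877, 2055, 6), (2454, 2067, 6), (2320, 2054, 1), (2323, 2054, 5), (3062, 2054, 6), (2324, 2048, 4), (3087, 2048, 6), (2321, 2046, 1), (1893, 2046, 5), (2800, 2046, 6), (1892, 2056, 4), (2389, 2056, 6), (2319, 2045, 0), (1808, 2045, 5), (3079, 2045, 6), (1809, 1557, 4), (3060, 1557, 6), (2864, 2049, 6), (1807, 2044, 5), (3078, 2044, 6), (1341, 1556, 4), (3096, 1556, 6), (1342, 1146, 3), (3075, 1146, 6), (2314, 2083, 4), (2287, 2083, 6), (2300, 2039, 3), (1781, 2039, 5), (2288, 2039, 6), (2356, 2078, 2), (1861, 2078, 5), (2797, 2078, 6), (2291, 1610, 6), (2355, 2077, 1), (2347, 2077, 5), (2795, 2077,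 6), (2348, 2071, 4), (3056, 2071, 6), (2272, 2028, 2), (1773, 2028, 5), (2290, 2028, 6), (2292, 1540, 6), (2345, 2079, 1), (1847, 2079, 5), (2798, 2079, 6), (1862, 1607, 4), (2739, 1607, 6), (2343, 2069, 0), (2326, 2069, 5), (3052, 2069, 6), (2349, 2072, 4), (3057, 2072, 6), (2799, 2073, 6), (2344, 2070, 0), (1888, 2070, 5), (2863, 2070, 6), (1891, 1638, 4), (2369, 1638, 6), (2277, 1640, 6), (2325, 2068, 5), (3051, 2068, 6), (2327, 2051, 4), (2874, 2051, 6), (1796, 2052, 3), (2384, 2052, 6), (1794, 2050, 4), (3066, 2050, 6), (1795, 1547, 3), (2899, 1547, 6), (2449, 1548, 6), (2239, 1977, 1), (2240, 1977, 4), (2845, 1977, 6), (2230, 1978, 3), (2242, 1978, 5), (2823, 1978, 6), (2229, 1969, 2), (2221, 1969, 5), (3090, 1969, 6), (3111, 1963, 6), (2243, 1979, 3), (2244, 1979, 5), (2846, 1979, 6), (2231, 1971, 2), (2233, 1971, 5), (2870, 1971, 6), (2824, 1981, 6), (2218, 1970, 1), (2222, 1970, 5), (2867, 1970, 6), (2223, 1964, 4), (2880, 1964, 6),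 (2219, 1962, 1), (2220, 1962, 5), (2780, 1962, 6), (2224, 1972, 4), (2783, 1972, 6), (2217, 1961, 0), (1752, 1961, 5), (2777, 1961, 6), (1753, 1516, 4), (2803, 1516, 6), (2807, 1965, 6), (1751, 1960, 5), (3064, 1960, 6), (1310, 1515, 4), (2804, 1515, 6), (1311, 1121, 3), (2826, 1121, 6), (2294, 2020, 4), (2359, 2020, 6), (2295, 2021, 3), (2296, 2021, 5), (2316, 2021, 6), (2280, 2011, 2), (2282, 2011, 5), (2791, 2011, 6), (2305, 2022, 6), (2279, 2010, 1), (2269, 2010, 5), (2854, 2010, 6), (2270, 2002, 4), (3065, 2002, 6), (2283, 2023, 2), (2297, 2023, 5), (1864, 2023, 6), (1782, 2024, 6), (2266, 2012, 1), (2284, 2012, 5), (2395, 2012, 6), (2273, 2014, 4), (2286, 2014, 6), (2264, 1999, 0), (2226, 1999, 5), (2881, 1999, 6), (2271, 2003, 4), (2868, 2003, 6), (2781, 2004, 6), (2265, 2000, 0), (2268, 2000, 5), (2882, 2000, 6), (2228, 2001, 4), (2784, 2001, 6), (2785, 2005, 6), (2225, 1998, 5), (3063, 1998, 6), (2227, 1967, 4), (3088, 1967, 6), (1724,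 1968, 3), (2808, 1968, 6), (1722, 1966, 4), (3089, 1966, 6), (1723, 1494, 3), (3102, 1494, 6), (2825, 1495, 6), (2404, 2126, 3), (2317, 2126, 5), (1849, 2126, 6), (2392, 2127, 2), (2405, 2127, 5), (1850, 2127, 6), (1851, 2128, 6), (2390, 2112, 1), (2393, 2112, 5), (2383, 2112, 6), (2360, 2114, 4), (2386, 2114, 6), (2371, 2111, 0), (2381, 2111, 5), (2382, 2111, 6), (2357, 2105, 4), (2859, 2105, 6), (2861, 2087, 6), (2375, 2115, 1), (2396, 2115, 5), (2385, 2115, 6), (2259, 2129, 4), (1853, 2129, 6), (2372, 2099, 0), (2376, 2099, 5), (2853, 2099, 6), (2350, 2116, 4), (2387, 2116, 6), (2731, 2086, 6), (2363, 2097, 5), (2858, 2097, 6), (2346, 2090, 4), (3044, 2090, 6), (2331, 2080, 3), (2862, 2080, 6), (2374, 2098, 5), (2844, 2098, 6), (2365, 2101, 4), (2713, 2101, 6), (2211, 2092, 3), (2380, 2092, 6), (2364, 2089, 4), (3043, 2089, 6), (2210, 2091, 3), (2857, 2091, 6), (2447, 1955, 6), (2208, 1953, 3), (3048, 1953, 6), (2209, 1954, 2), (2897, 1954,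 6), (2473, 2212, 1), (2474, 2212, 4), (2911, 2212, 6), (2464, 2213, 3), (2476, 2213, 5), (2686, 2213, 6), (2463, 2204, 2), (2093, 2204, 5), (3001, 2204, 6), (3007, 1827, 6), (2477, 2214, 3), (2478, 2214, 5), (2681, 2214, 6), (2465, 2206, 2), (2467, 2206, 5), (2629, 2206, 6), (2171, 2216, 6), (2103, 2205, 1), (2094, 2205, 5), (3005, 2205, 6), (2095, 1828, 4), (3003, 1828, 6), (2088, 1836, 1), (2104, 1836, 5), (2923, 1836, 6), (2096, 2207, 4), (2630, 2207, 6), (2102, 1835, 0), (1588, 1835, 5), (3021, 1835, 6), (1589, 1362, 4), (2940, 1362, 6), (2910, 1829, 6), (1587, 1834, 5), (3020, 1834, 6), (1164, 1361, 4), (2983, 1361, 6), (1165, 975, 3), (2954, 975, 6), (2617, 2339, 4), (2504, 2339, 6), (2578, 2340, 3), (2618, 2340, 5), (2505, 2340, 6), (2607, 2329, 2), (2609, 2329, 5), (2932, 2329, 6), (2508, 2341, 6), (2606, 2328, 1), (2598, 2328, 5), (2930, 2328, 6), (2599, 2322, 4), (2964, 2322, 6), (2546, 2304, 2), (2581, 2304, 5), (2507, 2304, 6),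 (2509, 2342, 6), (2596, 2330, 1), (2610, 2330, 5), (2933, 2330, 6), (2153, 2332, 4), (2662, 2332, 6), (2594, 2320, 0), (2075, 2320, 5), (2956, 2320, 6), (2600, 2323, 4), (2965, 2323, 6), (2969, 2324, 6), (2595, 2321, 0), (2132, 2321, 5), (2960, 2321, 6), (1641, 1893, 4), (2555, 1893, 6), (2645, 1892, 6), (2074, 2319, 5), (2955, 2319, 6), (2076, 1808, 4), (2978, 1808, 6), (1563, 1809, 3), (2929, 1809, 6), (1561, 1807, 4), (2977, 1807, 6), (1562, 1341, 3), (2987, 1341, 6), (2951, 1342, 6), (2575, 2314, 3), (2042, 2314, 5), (2015, 2314, 6), (2542, 2300, 2), (2032, 2300, 5), (2016, 2300, 6), (2017, 1781, 6), (2632, 2356, 1), (2113, 2356, 5), (2549, 2356, 6), (2130, 1861, 4), (2552, 1861, 6), (2619, 2355, 0), (2622, 2355, 5), (2548, 2355, 6), (2623, 2347, 4), (2924, 2347, 6), (2926, 2348, 6), (2494, 2272, 1), (2013, 2272, 5), (2551, 2272, 6), (2035, 1773, 4), (2019, 1773, 6), (2620, 2345, 0), (2100, 2345, 5), (2921, 2345, 6), (2117, 1847, 4), (2553,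 1847, 6), (2554, 1862, 6), (2602, 2343, 5), (2918, 2343, 6), (2604, 2326, 4), (2937, 2326, 6), (2625, 2349, 3), (2927, 2349, 6), (2150, 2344, 5), (2920, 2344, 6), (2152, 1888, 4), (2644, 1888, 6), (2063, 1891, 3), (2109, 1891, 6), (2603, 2325, 4), (2936, 2325, 6), (2062, 2327, 3), (2660, 2327, 6), (2184, 1796, 6), (2060, 1794, 3), (2946, 1794, 6), (2061, 1795, 2), (2699, 1795, 6), (2512, 2239, 4), (2613, 2239, 6), (2514, 2240, 3), (2515, 2240, 5), (2614, 2240, 6), (2497, 2230, 2), (2499, 2230, 5), (2971, 2230, 6), (2582, 2242, 6), (2496, 2229, 1), (2486, 2229, 5), (3004, 2229, 6), (2487, 2221, 4), (3010, 2221, 6), (2500, 2243, 2), (2188, 2243, 5), (2615, 2243, 6), (2616, 2244, 6), (2483, 2231, 1), (2501, 2231, 5), (2650, 2231, 6), (2490, 2233, 4), (2653, 2233, 6), (2481, 2218, 0), (2007, 2218, 5), (2647, 2218, 6), (2488, 2222, 4), (2665, 2222, 6), (2668, 2223, 6), (2482, 2219, 0), (2485, 2219, 5), (2534, 2219, 6), (2009, 2220, 4), (2538, 2220,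 6), (2563, 2224, 6), (2006, 2217, 5), (2931, 2217, 6), (2008, 1752, 4), (2557, 1752, 6), (1522, 1753, 3), (2560, 1753, 6), (1520, 1751, 4), (2967, 1751, 6), (1521, 1310, 3), (2585, 1310, 6), (2584, 1311, 6), (2571, 2294, 3), (2572, 2294, 5), (2081, 2294, 6), (2558, 2295, 2), (2573, 2295, 5), (2082, 2295, 6), (2041, 2296, 6), (2556, 2280, 1), (2559, 2280, 5), (2628, 2280, 6), (2543, 2282, 4), (2547, 2282, 6), (2532, 2279, 0), (2540, 2279, 5), (2627, 2279, 6), (2541, 2269, 4), (3002, 2269, 6), (2935, 2270, 6), (2536, 2283, 1), (2562, 2283, 5), (2131, 2283, 6), (2525, 2297, 4), (1611, 2297, 6), (2533, 2266, 0), (2537, 2266, 5), (2669, 2266, 6), (2545, 2284, 4), (2118, 2284, 6), (2539, 2273, 6), (2491, 2264, 5), (3000, 2264, 6), (2493, 2226, 4), (3006, 2226, 6), (2544, 2271, 3), (2651, 2271, 6), (2535, 2265, 5), (2934, 2265, 6), (2495, 2268, 4), (2670, 2268, 6), (1976, 2228, 3), (2564, 2228, 6), (2492, 2225, 4), (2966, 2225, 6), (1975, 2227, 3),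 (2970, 2227, 6), (2587, 1724, 6), (1973, 1722, 3), (2992, 1722, 6), (1974, 1723, 2), (2991, 1723, 6), (2673, 2404, 2), (2592, 2404, 5), (1594, 2404, 6), (1595, 2317, 6), (2663, 2392, 1), (2667, 2392, 5), (2107, 2392, 6), (2531, 2405, 4), (1596, 2405, 6), (2646, 2390, 0), (2664, 2390, 5), (2106, 2390, 6), (2624, 2393, 4), (2108, 2393, 6), (2642, 2360, 6), (2636, 2371, 5), (2654, 2371, 6), (2633, 2381, 4), (2638, 2381, 6), (2608, 2357, 3), (2639, 2357, 6), (2648, 2375, 0), (2652, 2375, 5), (2635, 2375, 6), (2503, 2396, 4), (2110, 2396, 6), (1597, 2259, 6), (2649, 2372, 5), (2634, 2372, 6), (2605, 2376, 4), (2626, 2376, 6), (2601, 2350, 3), (2643, 2350, 6), (2621, 2363, 4), (2905, 2363, 6), (2597, 2346, 3), (2908, 2346, 6), (2641, 2331, 6), (2637, 2374, 4), (2611, 2374, 6), (2472, 2365, 3), (2631, 2365, 6), (2180, 2211, 6), (2469, 2364, 3), (2907, 2364, 6), (2470, 2210, 2), (2694, 2210, 6), (2468, 2208, 2), (2913, 2208, 6), (2914, 2209, 6), (2719,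 2473, 4), (2715, 2473, 6), (2721, 2474, 3), (2722, 2474, 5), (2716, 2474, 6), (2708, 2464, 2), (2710, 2464, 5), (2834, 2464, 6), (2431, 2476, 6), (2707, 2463, 1), (2366, 2463, 5), (2849, 2463, 6), (2367, 2093, 4), (2842, 2093, 6), (2711, 2477, 2), (2441, 2477, 5), (2718, 2477, 6), (2424, 2478, 6), (2358, 2465, 1), (2712, 2465, 5), (2840, 2465, 6), (2370, 2467, 4), (2354, 2467, 6), (2379, 2103, 0), (1841, 2103, 5), (2866, 2103, 6), (2368, 2094, 4), (2851, 2094, 6), (2837, 2095, 6), (2362, 2088, 0), (2361, 2088, 5), (2869, 2088, 6), (1843, 2104, 4), (2732, 2104, 6), (2714, 2096, 6), (1840, 2102, 5), (2865, 2102, 6), (1842, 1588, 4), (2879, 1588, 6), (1368, 1589, 3), (2754, 1589, 6), (1366, 1587, 4), (2878, 1587, 6), (1367, 1164, 3), (2828, 1164, 6), (2775, 1165, 6), (2818, 2617, 3), (2847, 2617, 5), (2234, 2617, 6), (2790, 2578, 2), (2822, 2578, 5), (2235, 2578, 6), (2236, 2618, 6), (2841, 2607, 1), (2843, 2607, 5), (2742, 2607, 6), (2418, 2609,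 4), (2745, 2609, 6), (2832, 2606, 0), (2835, 2606, 5), (2741, 2606, 6), (2836, 2598, 4), (2786, 2598, 6), (2788, 2599, 6), (2747, 2546, 1), (2793, 2546, 5), (2744, 2546, 6), (2311, 2581, 4), (2238, 2581, 6), (2833, 2596, 0), (2398, 2596, 5), (2779, 2596, 6), (2378, 2610, 4), (2746, 2610, 6), (2792, 2153, 6), (2351, 2594, 5), (2776, 2594, 6), (2353, 2075, 4), (2802, 2075, 6), (2748, 2600, 3), (2789, 2600, 6), (2406, 2595, 5), (2778, 2595, 6), (1863, 2132, 4), (2782, 2132, 6), (1416, 1641, 3), (2740, 1641, 6), (2352, 2074, 4), (2801, 2074, 6), (1815, 2076, 3), (2806, 2076, 6), (2770, 1563, 6), (1813, 1561, 3), (2814, 1561, 6), (1814, 1562, 2), (2815, 1562, 6), (2819, 2575, 2), (2307, 2575, 5), (1758, 2575, 6), (1759, 2042, 6), (2787, 2542, 1), (2281, 2542, 5), (2275, 2542, 6), (2309, 2032, 4), (1760, 2032, 6), (2848, 2632, 0), (2391, 2632, 5), (2274, 2632, 6), (2394, 2113, 4), (2276, 2113, 6), (2737, 2130, 6), (2838, 2619, 5), (2725, 2619, 6),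 (2850, 2622, 4), (2733, 2622, 6), (2852, 2623, 3), (2734, 2623, 6), (2743, 2494, 0), (2267, 2494, 5), (2728, 2494, 6), (2285, 2013, 4), (2278, 2013, 6), (1761, 2035, 6), (2373, 2620, 5), (2726, 2620, 6), (2377, 2100, 4), (2730, 2100, 6), (2397, 2117, 3), (2738, 2117, 6), (2839, 2602, 4), (2749, 2602, 6), (2794, 2604, 3), (2752, 2604, 6), (2736, 2625, 6), (2417, 2150, 4), (2729, 2150, 6), (2338, 2152, 3), (2388, 2152, 6), (1928, 2063, 6), (2336, 2603, 3), (2751, 2603, 6), (2337, 2062, 2), (2452, 2062, 6), (2335, 2060, 2), (2761, 2060, 6), (2762, 2061, 6)]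

def W4 : List (List ℕ) :=
   [[3],
    [5],
    [0, 1, 0, 4, 3, 2, 1, 0, 5, 4, 3, 6, 2, 1, 0, 3, 2, 1, 4, 3, 2, 5, 4, 3, 6, 2, 1, 0, 3, 2, 4, 6, 5, 3, 4, 2, 3, 1, 2, 6, 3, 4, 5, 2, 3, 4, 1, 2, 3, 0, 1, 2, 6, 3, 4, 1, 2, 3, 0, 1, 2]]

def T4 : List (ℕ × ℕ × ℕ) :=
  [(22, 15, 0), (23, 15, 1), (32, 15, 2)]

theorem wOK3 : wordsOK [1, 0] W3 = true := by decide +kernel
theorem wOK4 : wordsOK [636, 1, 0] W4 = true := by decide +kernel

theorem finG : Finite G := by
  apply Nat.finite_of_card_ne_zero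
  intro h
  have := card_G_dvd
  rw [h] at this
  norm_num at this

theorem lev1 : 3159 * Nat.card ↥(Kof [0]) ≤ Nat.card G := by
  haveI := finG
  have h := step (⊤ : Subgroup G) 0 (Finset.range N) (by
    intro p hp
    rw [Finset.mem_range] at hp
    obtain ⟨g, hg⟩ : ∃ g : G, nd p = g • n0 := by
      induction (nd p) using QuotientGroup.induction_on with
      | H g => exact ⟨g, by simp [n0, MulAction.Quotient.smul_mk]⟩
    refine ⟨g, Subgroup.mem_top g, ?_⟩
    have h1 := hpsi p hp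
    rw [hg] at h1
    unfold psiQ at h1
    rw [TCG.psi_smul] at h1
    have h0 := psi_n0
    unfold psiQ at h0
    rw [h0] at h1
    exact h1)
  rw [Finset.card_range, Subgroup.card_top] at h
  exact h

theorem Kof0 : Kof [0] = Hs := by
  ext g
  rw [mem_Kof]
  simp only [List.mem_singleton, forall_eq]
  constructor
  · intro h
    have h1 : psiQ (g • n0) = psiQ n0 := by
      unfold psiQ
      rw [TCG.psi_smul]
      have h0 := psi_n0
      unfold psiQ at h0
      rw [h0, h]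
    have h2 := psi_inj h1
    unfold n0 at h2
    rw [MulAction.Quotient.smul_mk, QuotientGroup.eq] at h2
    simpa using Hs.inv_mem h2
  · intro h
    exact hH g h

theorem lev2 : 288 * Nat.card ↥(Kof [1, 0]) ≤ Nat.card ↥(Kof [0]) := by
  haveI := finG
  have h := step (Kof [0]) 1 ((Finset.range N).filter (fun i => oid i = 1)) (by
    intro p hp
    rw [Finset.mem_filter, Finset.mem_range] at hp
    obtain ⟨h, hh, e⟩ := orb_reach 1 (odep p) p hp.1 rfl hp.2
    exact ⟨h, Kof0 ▸ hh, e⟩)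
  have hc : ((Finset.range N).filter (fun i => oid i = 1)).card = 288 := by decide +kernel
  rw [hc] at h
  exact h

theorem lev3 : 1260 * Nat.card ↥(Kof [636, 1, 0]) ≤ Nat.card ↥(Kof [1, 0]) := by
  haveI := finG
  exact level wOK3 636 T3 (by decide +kernel) 1260 (by decide +kernel)

theorem lev4 : 4 * Nat.card ↥(Kof [15, 636, 1, 0]) ≤ Nat.card ↥(Kof [636, 1, 0]) := by
  haveI := finG
  exact level wOK4 15 T4 (by decide +kernel) 4 (by decide +kernel)

theorem card_lower : 4585351680 * Nat.card ↥(Kof [15, 636, 1, 0]) ≤ Nat.card G := by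
  have h1 := lev1
  have h2 := lev2
  have h3 := lev3
  have h4 := lev4
  have key : ∀ a b c : ℕ, a * b ≤ c → ∀ m, m * a * b ≤ m * c := by
    intro a b c h m; rw [mul_assoc]; exact Nat.mul_le_mul_left m h
  have g1 : 3159 * Nat.card ↥(Kof [0]) ≤ Nat.card G := h1
  have g2 : 909792 * Nat.card ↥(Kof [1, 0]) ≤ Nat.card G := by
    have := Nat.mul_le_mul_left 3159 h2
    rw [← mul_assoc] at this
    exact (show 909792 * Nat.card ↥(Kof [1, 0]) = 3159 * 288 * Nat.card ↥(Kof [1, 0]) by norm_num).le.trans (this.trans g1)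
  have g3 : 1146337920 * Nat.card ↥(Kof [636, 1, 0]) ≤ Nat.card G := by
    have := Nat.mul_le_mul_left 909792 h3
    rw [← mul_assoc] at this
    exact (show 1146337920 * Nat.card ↥(Kof [636, 1, 0]) = 909792 * 1260 * Nat.card ↥(Kof [636, 1, 0]) by norm_num).le.trans (this.trans g2)
  have g4 : 4585351680 * Nat.card ↥(Kof [15, 636, 1, 0]) ≤ Nat.card G := by
    have := Nat.mul_le_mul_left 1146337920 h4
    rw [← mul_assoc] at this
    exact (show 4585351680 * Nat.card ↥(Kof [15, 636, 1, 0]) = 1146337920 * 4 * Nat.card ↥(Kof [15, 636, 1, 0]) by norm_num).le.trans (this.trans g3)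
  exact g4

theorem card_G : Nat.card G = 4585351680 := by
  haveI := finG
  have h1 := card_lower
  have hpos : 0 < Nat.card ↥(Kof [15, 636, 1, 0]) := Nat.card_pos
  have h2 := Nat.le_of_dvd (by norm_num) card_G_dvd
  nlinarith

theorem card_Kbase : Nat.card ↥(Kof [15, 636, 1, 0]) = 1 := by
  haveI := finG
  have h1 := card_lower
  have hpos : 0 < Nat.card ↥(Kof [15, 636, 1, 0]) := Nat.card_pos
  rw [card_G] at h1
  nlinarith

/-- an element fixing the base points is trivial. -/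
theorem eq_one_of_fix {g : G} (h : ∀ b ∈ [15, 636, 1, 0], phi g b = b) : g = 1 := by
  have hm : g ∈ Kof [15, 636, 1, 0] := mem_Kof.mpr h
  have hb : Kof [15, 636, 1, 0] = ⊥ := Subgroup.card_eq_one.mp card_Kbase
  rw [hb] at hm
  exact Subgroup.mem_bot.mp hm

theorem phi_injective : Function.Injective phi := by
  rw [injective_iff_map_eq_one]
  intro g hg
  apply eq_one_of_fix
  intro b _
  rw [hg, Equiv.Perm.one_apply]

/-- word identity test via the base. -/
def chkBase (w : List ℕ) : Bool :=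
  (w.all fun l => decide (l < nl)) && [15, 636, 1, 0].all fun b => evalw w b == b

theorem prodw_eq_one {w : List ℕ} (h : chkBase w = true) : prodw w = 1 := by
  simp only [chkBase, Bool.and_eq_true, List.all_eq_true, decide_eq_true_eq, beq_iff_eq] at h
  apply eq_one_of_fix
  intro b hb
  rw [phi_prodw_apply _ h.1]
  exact h.2 b hb

end Cfsg.Agent.Helper17.FiQ1Ord
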